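import Cfsg.Prelude.Def_DegreeGraph
import Cfsg.Agent.CharactersDeep.ExtensionCriteria
import Cfsg.Agent.OddOrderChar.Reciprocity
import Cfsg.Agent.S0887

/-!
# Degree sets: membership, products with characters of quotients, induction
-/

set_option autoImplicit false
set_option linter.style.haveILetI false
set_option linter.unusedSectionVars false

namespace CfsgLib.DegreeGraph

open CfsgLib.Characters CfsgLib.OddOrderChar CfsgLib.CharactersDeep

universe u

variable {G : Type u} [Group G] [Fintype G]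

theorem charDegree_eq {χ : G → ℂ} {d : ℕ} (h : χ 1 = d) : Cfsg.charDegree χ = d := by
  simp [Cfsg.charDegree, h]

theorem mem_charDegrees {χ : G → ℂ} (hχ : Cfsg.IsIrrCharacter G χ) {d : ℕ} (h : χ 1 = d) :
    d ∈ Cfsg.charDegrees G :=
  ⟨⟨χ, hχ⟩, charDegree_eq h⟩

theorem exists_of_mem {d : ℕ} (h : d ∈ Cfsg.charDegrees G) :
    ∃ χ : G → ℂ, Cfsg.IsIrrCharacter G χ ∧ χ 1 = d ∧ 0 < d := by
  obtain ⟨χ, rfl⟩ := h
  obtain ⟨n, hn0, hn⟩ := exists_degree_pos χ.2
  rw [charDegree_eq hn]
  exact ⟨_, χ.2, hn, hn0⟩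

theorem pos_of_mem {d : ℕ} (h : d ∈ Cfsg.charDegrees G) : 0 < d :=
  (exists_of_mem h).choose_spec.2.2

variable (N : Subgroup G) [hN : N.Normal] [Fintype N]

/-- Some irreducible character of the normal subgroup lies under a given one. -/
theorem exists_under {χ : G → ℂ} (hχ : Cfsg.IsIrrCharacter G χ) :
    ∃ θ : N → ℂ, Cfsg.IsIrrCharacter N θ ∧ Cfsg.classInner (fun n : N => χ n) θ ≠ 0 :=
  exists_constituent (isCharacter_restrict N (isCharacter_of_isIrr hχ))
    fun h => irr_one_ne_zero hχ (by simpa using congrFun h 1)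

/-- Clifford: the degree of a constituent divides the degree, the quotient divides the index. -/
theorem exists_ratio {χ : G → ℂ} (hχ : Cfsg.IsIrrCharacter G χ) {θ : N → ℂ}
    (hθ : Cfsg.IsIrrCharacter N θ) (hcon : Cfsg.classInner (fun n : N => χ n) θ ≠ 0) {c : ℕ}
    (hc : χ 1 = c) : ∃ d k : ℕ, θ 1 = d ∧ c = d * k ∧ k ∣ N.index ∧ 0 < d := by
  obtain ⟨d, hd0, hd⟩ := exists_degree_pos hθ
  obtain ⟨⟨k, rfl⟩, h2⟩ := Cfsg.Agent.S0887.result N χ hχ θ hθ hcon c d hc hd
  exact ⟨d, k, hd, rfl, by rwa [Nat.mul_div_cancel_left _ hd0] at h2, hd0⟩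

/-- A degree coprime to the index forces irreducible restriction. -/
theorem restrict_irr_of_coprime {χ : G → ℂ} (hχ : Cfsg.IsIrrCharacter G χ) {c : ℕ} (hc : χ 1 = c)
    (hcop : Nat.Coprime c N.index) : Cfsg.IsIrrCharacter N fun n : N => χ n := by
  obtain ⟨θ, hθ, hcon⟩ := exists_under N hχ
  obtain ⟨d, k, hd, rfl, hk, hd0⟩ := exists_ratio N hχ hθ hcon hc
  have hk1 : k = 1 := Nat.eq_one_of_dvd_coprimes hcop (dvd_mul_left _ _) hk
  have h := Clifford.eq_of_constituent_of_degree_le
    (isCharacter_restrict N (isCharacter_of_isIrr hχ)) hθ hcon (a := d) (b := d)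
    (by simpa [hk1] using hc) hd le_rfl
  rwa [h]

/-- Gallagher: products of degrees of a character with irreducible restriction and of the
quotient are degrees. -/
theorem mul_mem_charDegrees {χ : G → ℂ} (hχ : Cfsg.IsIrrCharacter G χ)
    (hres : Cfsg.IsIrrCharacter N fun n : N => χ n) {c e : ℕ} (hc : χ 1 = c)
    (he : e ∈ Cfsg.charDegrees (G ⧸ N)) : c * e ∈ Cfsg.charDegrees G := by
  haveI := Fintype.ofFinite (G ⧸ N)
  obtain ⟨β, hβ, hβ1, -⟩ := exists_of_mem he
  refine mem_charDegrees (Gallagher.isIrr_prodInfl N hχ hres hβ) ?_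
  simp [Gallagher.prodInfl, hc, hβ1]

theorem charDegrees_quotient_subset : Cfsg.charDegrees (G ⧸ N) ⊆ Cfsg.charDegrees G := by
  intro e he
  haveI := Fintype.ofFinite (G ⧸ N)
  obtain ⟨β, hβ, hβ1, -⟩ := exists_of_mem he
  exact mem_charDegrees (isIrr_comp (QuotientGroup.mk' N) (QuotientGroup.mk'_surjective N) hβ)
    (by rw [map_one]; exact hβ1)

/-- A character moved by every element outside `N` induces irreducibly. -/
theorem isIrr_indFun_of_stabilizer {θ : N → ℂ} (hθ : Cfsg.IsIrrCharacter N θ)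
    (hst : ∀ g, g ∉ N → conjBy N θ g ≠ θ) : Cfsg.IsIrrCharacter G (Cfsg.indFun N θ) := by
  classical
  refine isIrr_of_classInner_self
    (CfsgLib.Characters.isCharacter_indFun N (isCharacter_of_isIrr hθ)) ?_
  have hres : (fun n : N => Cfsg.indFun N θ n) = (Nat.card N : ℂ)⁻¹ • ∑ g : G, conjBy N θ g := by
    funext n
    rw [indFun_normal_apply, Pi.smul_apply, Finset.sum_apply, smul_eq_mul]
  rw [classInner_indFun N θ (CfsgLib.Characters.isClassFunction_indFun N θ), hres,
    classInner_smul_right, classInner_sum_right]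
  have hterm : ∀ g : G, Cfsg.classInner θ (conjBy N θ g) = if g ∈ N then 1 else 0 := fun g => by
    split_ifs with hg
    · rw [show conjBy N θ g = θ from funext fun n =>
        (congrArg θ (Subtype.ext (by simp))).trans (isClassFunction_of_isIrr hθ n ⟨g, hg⟩),
        classInner_isIrr_self hθ]
    · exact classInner_isIrr_ne hθ (Clifford.isIrr_conjBy N hθ g) fun h => hst g hg h.symm
  rw [Finset.sum_congr rfl fun g _ => hterm g, Finset.sum_boole, ← Fintype.card_subtype,
    ← Nat.card_eq_fintype_card, map_inv₀, Complex.conj_natCast]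
  exact inv_mul_cancel₀ (subgroup_card_ne_zero N)

end CfsgLib.DegreeGraph
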