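import Cfsg.Agent.DegreeGraph.Twelve
import Mathlib.Combinatorics.SimpleGraph.Connectivity.Connected
import Mathlib.Data.Set.Card

/-!
# A solvable group has at most two components in its degree graph
-/

set_option autoImplicit false
set_option linter.style.haveILetI false
set_option linter.unusedSectionVars false

namespace CfsgLib.DegreeGraph

open CfsgLib.Characters CfsgLib.OddOrderChar CfsgLib.CharactersDeep
open scoped commutatorElement

universe u

variable {G : Type u} [Group G] [Fintype G]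

/-- A nonabelian `q`-group quotient contributes a degree `q ^ j` with `j > 0`. -/
theorem exists_prime_pow_degree {q : ℕ} (hq : q.Prime) (K : Subgroup G) [K.Normal] {n : ℕ}
    (hn : K.index = q ^ n) (hne : ∃ a b : G, ⁅a, b⁆ ∉ K) :
    ∃ j, 0 < j ∧ q ^ j ∈ Cfsg.charDegrees (G ⧸ K) := by
  classical
  haveI := Fintype.ofFinite (G ⧸ K)
  obtain ⟨a, b, hab⟩ := hne
  obtain ⟨β, hβ⟩ : ∃ β : Cfsg.IrrCharacter (G ⧸ K), (β : G ⧸ K → ℂ) 1 ≠ 1 := by
    by_contra hall
    push Not at hall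
    apply hab
    rw [← QuotientGroup.eq_one_iff, ← QuotientGroup.mk'_apply, map_commutatorElement,
      commutatorElement_eq_one_iff_mul_comm]
    exact PrimePowerDegrees.comm_of_linear hall _ _
  obtain ⟨d, ρ, hρ, he⟩ := β.2
  haveI := hρ
  have hd : (β : G ⧸ K → ℂ) 1 = d := by
    rw [← he, Representation.char_one, Module.finrank_fin_fun]
  have hdvd := finrank_dvd_card ρ
  rw [Module.finrank_fin_fun, ← Subgroup.index_eq_card, hn] at hdvd
  obtain ⟨j, -, rfl⟩ := (Nat.dvd_prime_pow hq).1 hdvd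
  exact ⟨j, Nat.pos_of_ne_zero fun h0 => hβ (by rw [hd, h0, pow_zero, Nat.cast_one]),
    mem_charDegrees β.2 hd⟩

/-- **Isaacs 12.3, 12.4 for the degree set**: there are a prime `q` and, in the Frobenius case, a
degree `f` such that every degree is divisible by `q` or divides some multiple of `f` that is a
degree. In the case of a quotient of `q`-power order `f = 1` and every degree coprime to `q` gives,
multiplied by a fixed positive power of `q`, a degree. -/
theorem degree_dichotomy [Group.IsSolvable G] (hne : ∃ a b : G, a * b ≠ b * a) :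
    ∃ q : ℕ, q.Prime ∧
      ((∃ j, 0 < j ∧ q ^ j ∈ Cfsg.charDegrees G ∧
          ∀ c ∈ Cfsg.charDegrees G, q ∣ c ∨ c * q ^ j ∈ Cfsg.charDegrees G) ∨
        ∃ f, 1 < f ∧ f ∈ Cfsg.charDegrees G ∧
          ∀ c ∈ Cfsg.charDegrees G, q ∣ c ∨
            ∃ d, d ∣ c ∧ c ∣ f * d ∧ f * d ∈ Cfsg.charDegrees G) := by
  classical
  obtain ⟨K, hKn, h⟩ := exists_section hne
  haveI := hKn
  haveI := Fintype.ofFinite K
  rcases h with ⟨q, n, hq, hn, hab⟩ | ⟨q, N, hNn, hF⟩
  · obtain ⟨j, hj, hmem⟩ := exists_prime_pow_degree hq K hn hab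
    refine ⟨q, hq, Or.inl ⟨j, hj, charDegrees_quotient_subset K hmem, fun c hc => ?_⟩⟩
    by_cases hqc : q ∣ c
    · exact Or.inl hqc
    obtain ⟨χ, hχ, hχ1, -⟩ := exists_of_mem hc
    have hres := restrict_irr_of_coprime K hχ hχ1
      (hn ▸ (Nat.coprime_comm.1 (hq.coprime_iff_not_dvd.2 hqc)).pow_right n)
    exact Or.inr (mul_mem_charDegrees K hχ hres hχ1 hmem)
  · haveI := hNn
    haveI := Fintype.ofFinite N
    refine ⟨q, hF.prime, Or.inr ⟨N.index, ?_, ?_, fun c hc => ?_⟩⟩
    · have h1 : N.index ≠ 1 := fun h => hF.ne_top (Subgroup.index_eq_one.1 h)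
      have h0 : N.index ≠ 0 := Subgroup.index_ne_zero_of_finite
      omega
    · rcases hF.index_mul_mem_or_dvd isIrr_one (d := 1) (by simp) with h | h
      · simpa using h
      · exact absurd h hF.prime.not_dvd_one
    · obtain ⟨χ, hχ, hχ1, -⟩ := exists_of_mem hc
      obtain ⟨θ, hθ, hcon⟩ := exists_under N hχ
      obtain ⟨d, k, hd, rfl, hk, -⟩ := exists_ratio N hχ hθ hcon hχ1
      rcases hF.index_mul_mem_or_dvd hθ hd with h | h
      · exact Or.inr ⟨d, dvd_mul_right _ _, by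
          rw [mul_comm N.index]; exact Nat.mul_dvd_mul_left _ hk, h⟩
      · exact Or.inl (dvd_mul_of_dvd_left h _)

theorem degreePrimes_eq_empty_of_comm (h : ∀ a b : G, a * b = b * a) :
    Cfsg.degreePrimes G = ∅ := by
  refine Set.eq_empty_iff_forall_notMem.2 fun p hp => ?_
  obtain ⟨hp, d, hd, hpd⟩ := hp
  obtain ⟨χ, hχ, hχ1, -⟩ := exists_of_mem hd
  obtain ⟨e, he, hdvd⟩ := CfsgLib.GaloisAverage.exists_degree_dvd_index hχ ⊤ fun a _ b _ => h a b
  rw [Subgroup.index_top, Nat.dvd_one] at hdvd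
  have h1 : d = 1 := Nat.cast_injective (R := ℂ) (by rw [← hχ1, he, hdvd])
  exact hp.not_dvd_one (h1 ▸ hpd)

/-- Two primes dividing one degree are joined in the degree graph. -/
theorem reachable_of_dvd {r s : Cfsg.degreePrimes G} {d : ℕ} (hd : d ∈ Cfsg.charDegrees G)
    (hr : (r : ℕ) ∣ d) (hs : (s : ℕ) ∣ d) :
    ((Cfsg.degreeGraph G).induce (Cfsg.degreePrimes G)).Reachable r s := by
  by_cases h : r = s
  · rw [h]
  · refine SimpleGraph.Adj.reachable
      (SimpleGraph.induce_adj.2 ⟨fun h' => h (Subtype.ext h'), r.2.1, s.2.1, d, hd, ?_⟩)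
    exact Nat.Coprime.mul_dvd_of_dvd_of_dvd
      ((Nat.coprime_primes r.2.1 s.2.1).2 fun h' => h (Subtype.ext h')) hr hs

/-- Two numbers meet every component of the degree graph of a solvable group. -/
theorem exists_two_meeting [Group.IsSolvable G] :
    ∃ a b : ℕ, ∀ v : Cfsg.degreePrimes G, ∃ w : Cfsg.degreePrimes G,
      ((Cfsg.degreeGraph G).induce (Cfsg.degreePrimes G)).Reachable v w ∧
        ((w : ℕ) = a ∨ (w : ℕ) = b) := by
  classical
  by_cases hcomm : ∀ a b : G, a * b = b * a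
  · exact ⟨0, 0, fun v => absurd v.2 (Set.eq_empty_iff_forall_notMem.1 (degreePrimes_eq_empty_of_comm hcomm) v)⟩
  push Not at hcomm
  obtain ⟨q, hq, ⟨j, hj, hqj, h⟩ | ⟨f, hf1, hf, h⟩⟩ := degree_dichotomy hcomm
  · refine ⟨q, q, fun v => ?_⟩
    obtain ⟨hv, c, hc, hvc⟩ := v.2
    have hqmem : q ∈ Cfsg.degreePrimes G := ⟨hq, q ^ j, hqj, dvd_pow_self q hj.ne'⟩
    refine ⟨⟨q, hqmem⟩, ?_, Or.inl rfl⟩
    rcases h c hc with h' | h'
    · exact reachable_of_dvd hc hvc h'
    · exact reachable_of_dvd h' (dvd_mul_of_dvd_left hvc _)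
        (dvd_mul_of_dvd_right (dvd_pow_self q hj.ne') c)
  · obtain ⟨p, hp, hpf⟩ := Nat.exists_prime_and_dvd (show f ≠ 1 by omega)
    refine ⟨q, p, fun v => ?_⟩
    obtain ⟨hv, c, hc, hvc⟩ := v.2
    rcases h c hc with h' | ⟨d, -, hcd, hfd⟩
    · exact ⟨⟨q, hq, c, hc, h'⟩, reachable_of_dvd hc hvc h', Or.inl rfl⟩
    · exact ⟨⟨p, hp, f, hf, hpf⟩,
        reachable_of_dvd hfd (hvc.trans hcd) (dvd_mul_of_dvd_left hpf d), Or.inr rfl⟩

/-- **Manz**: at most two components. -/
theorem card_components_le_two [Group.IsSolvable G] :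
    Nat.card ((Cfsg.degreeGraph G).induce (Cfsg.degreePrimes G)).ConnectedComponent ≤ 2 := by
  classical
  obtain ⟨a, b, h⟩ := exists_two_meeting (G := G)
  set Γ := (Cfsg.degreeGraph G).induce (Cfsg.degreePrimes G)
  have hrep : ∀ c : Γ.ConnectedComponent, ∃ w : Cfsg.degreePrimes G,
      Γ.connectedComponentMk w = c ∧ (w : ℕ) ∈ ({a, b} : Set ℕ) := fun c => by
    induction c using SimpleGraph.ConnectedComponent.ind with
    | _ v =>
      obtain ⟨w, hvw, hw⟩ := h v
      exact ⟨w, (SimpleGraph.ConnectedComponent.sound hvw).symm, by simpa using hw⟩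
  choose w hwc hw using hrep
  let e : Γ.ConnectedComponent → ({a, b} : Set ℕ) := fun c => ⟨(w c : ℕ), hw c⟩
  have hinj : Function.Injective e := fun c c' hcc => by
    have h1 : (w c : ℕ) = w c' := congrArg (fun z : ({a, b} : Set ℕ) => (z : ℕ)) hcc
    rw [← hwc c, ← hwc c', Subtype.ext h1]
  refine (Nat.card_le_card_of_injective _ hinj).trans ?_
  rw [Nat.card_coe_set_eq]
  exact (Set.ncard_insert_le a {b}).trans (by simp)

end CfsgLib.DegreeGraph
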