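import Cfsg.Agent.Classification.SmallGraph.Degrees
import Cfsg.Agent.Characters.Burnside

/-!
# A nonsolvable group has three primes among its degrees

In a simple group a character of `p`-power degree vanishes at a central element `z ≠ 1` of a Sylow
`p`-subgroup. So if all other nontrivial degrees were divisible by one prime `q`, the column
orthogonality at `z` would make `1 / q` an algebraic integer.
-/

set_option autoImplicit false
set_option linter.style.haveILetI false

namespace CfsgLib.DegreeGraph.ThreePrimes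

open CfsgLib.Characters CfsgLib.DegreeGraph

universe u

variable {G : Type u} [Group G] [Finite G]

/-- A faithful-or-trivial irreducible character of a simple group with degree coprime to the class
of `z ≠ 1` vanishes at `z` or is trivial. -/
theorem apply_eq_zero [IsSimpleGroup G] (hna : ∃ a b : G, a * b ≠ b * a) {z : G} (hz : z ≠ 1)
    {χ : G → ℂ} (hχ : Cfsg.IsIrrCharacter G χ) (hne : χ ≠ fun _ => 1) {d : ℕ} (hd : χ 1 = d)
    (hcop : Nat.Coprime d (Subgroup.centralizer ({z} : Set G)).index) : χ z = 0 := by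
  classical
  haveI := Fintype.ofFinite G
  obtain ⟨n, ρ, hρ, hρc⟩ := id hχ
  haveI := hρ
  have hdn : Module.finrank ℂ (Fin n → ℂ) = d := by
    rw [← hρc, Representation.char_one] at hd
    exact_mod_cast hd
  rcases char_zero_or_norm_of_coprime ρ z (by rwa [hdn]) with h | h
  · rw [← hρc]; exact h
  exfalso
  obtain ⟨ω, hω, -⟩ := exists_scalar_of_norm_char_eq ρ z h
  rcases IsSimpleGroup.eq_bot_or_eq_top_of_normal ρ.ker inferInstance with hk | hk
  · have hc : z ∈ Subgroup.center G :=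
      Subgroup.mem_center_iff.2 fun x => (MonoidHom.ker_eq_bot_iff ρ).1 hk (by
        rw [map_mul, map_mul, hω]; ext v; simp)
    rcases IsSimpleGroup.eq_bot_or_eq_top_of_normal (Subgroup.center G) inferInstance with hcb | hct
    · exact hz (Subgroup.mem_bot.1 (hcb ▸ hc))
    · obtain ⟨a, b, hab⟩ := hna
      exact hab (Subgroup.mem_center_iff.1 (show b ∈ Subgroup.center G from
        hct ▸ Subgroup.mem_top b) a)
  · have hconst : ∀ x : G, χ x = (d : ℂ) := fun x => by
      rw [← hd, ← hρc, Representation.character, Representation.character,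
        MonoidHom.mem_ker.1 (show x ∈ ρ.ker from hk ▸ Subgroup.mem_top x), map_one ρ]
    have h1 := classInner_isIrr_ne hχ isIrr_one hne
    have hfun : χ = (d : ℂ) • (fun _ : G => (1 : ℂ)) := funext fun x => by simp [hconst x]
    rw [hfun, classInner_smul_left, classInner_isIrr_self isIrr_one, mul_one] at h1
    exact irr_one_ne_zero hχ (hd.trans h1)

/-- Some prime other than `p` divides a degree not divisible by `q`. -/
theorem exists_prime_simple [IsSimpleGroup G] (hna : ∃ a b : G, a * b ≠ b * a) {p q : ℕ}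
    (hp : p.Prime) (hpG : p ∣ Nat.card G) (hq : q.Prime) :
    ∃ r, r.Prime ∧ r ≠ p ∧ r ≠ q ∧ r ∈ Cfsg.degreePrimes G := by
  classical
  haveI := Fintype.ofFinite G
  haveI := Fact.mk hp
  by_contra hno
  push Not at hno
  obtain ⟨P⟩ : Nonempty (Sylow p G) := inferInstance
  haveI : Nontrivial (P : Subgroup G) :=
    (Subgroup.nontrivial_iff_ne_bot _).2 (P.ne_bot_of_dvd_card hpG)
  haveI : Nontrivial (Subgroup.center (P : Subgroup G)) := P.2.center_nontrivial
  obtain ⟨z', hz'⟩ := exists_ne (1 : Subgroup.center (P : Subgroup G))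
  set z : G := ((z' : (P : Subgroup G)) : G)
  have hz1 : z ≠ 1 := fun h => hz' (Subtype.ext (Subtype.ext h))
  have hidx : ¬ p ∣ (Subgroup.centralizer ({z} : Set G)).index := fun h =>
    P.not_dvd_index (h.trans (Subgroup.index_dvd_of_le fun s hs =>
      Subgroup.mem_centralizer_singleton_iff.2
        (congrArg Subtype.val (Subgroup.mem_center_iff.1 z'.2 ⟨s, hs⟩))))
  let one : Cfsg.IrrCharacter G := ⟨fun _ => 1, isIrr_one⟩
  have hint : IsIntegral ℤ ((1 : ℂ) / (q : ℂ)) := by
    have hsum : ∑ χ : Cfsg.IrrCharacter G, (χ : G → ℂ) 1 * (χ : G → ℂ) z = 0 := by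
      rw [sum_degree_mul z, if_neg hz1]
    rw [Fintype.sum_eq_add_sum_compl one] at hsum
    have h1 : (1 : ℂ) / (q : ℂ) =
        -∑ χ ∈ ({one} : Finset (Cfsg.IrrCharacter G))ᶜ,
          (χ : G → ℂ) 1 * (χ : G → ℂ) z / (q : ℂ) := by
      rw [← Finset.sum_div, ← neg_div, eq_neg_of_add_eq_zero_right hsum, neg_neg]
      simp [one]
    rw [h1]
    refine IsIntegral.neg (IsIntegral.sum _ fun χ hχ => ?_)
    obtain ⟨d, hd0, hd⟩ := exists_degree_pos χ.2
    by_cases hqd : q ∣ d
    · obtain ⟨m, rfl⟩ := hqd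
      have he : (χ : G → ℂ) 1 * (χ : G → ℂ) z / (q : ℂ) = (m : ℂ) * (χ : G → ℂ) z := by
        have hq0 : (q : ℂ) ≠ 0 := Nat.cast_ne_zero.2 hq.ne_zero
        rw [hd]
        push_cast
        field_simp
      rw [he]
      exact (isIntegral_algebraMap (x := (m : ℤ))).mul
        (character_isIntegral (isCharacter_of_isIrr χ.2) z)
    have hpd : ∀ r : ℕ, r.Prime → r ∣ d → r = p := fun r hr hrd => by
      by_contra hrp
      exact hno r hr hrp (fun h => hqd (h ▸ hrd)) ⟨hr, d, mem_charDegrees χ.2 hd, hrd⟩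
    have hcop : Nat.Coprime d (Subgroup.centralizer ({z} : Set G)).index :=
      Nat.coprime_of_dvd fun r hr hrd hri => hidx (hpd r hr hrd ▸ hri)
    have h0 := apply_eq_zero hna hz1 χ.2
      (fun h => (Finset.mem_compl.1 hχ) (Finset.mem_singleton.2 (Subtype.ext h))) hd hcop
    simpa [h0] using (isIntegral_zero : IsIntegral ℤ (0 : ℂ))
  exact hq.ne_one (Nat.dvd_one.1 (dvd_of_isIntegral_div hq.ne_zero (by simpa using hint)))

theorem prime_dvd_card {p : ℕ} (h : p ∈ Cfsg.degreePrimes G) : p ∣ Nat.card G := by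
  haveI := Fintype.ofFinite G
  obtain ⟨-, d, hd, hpd⟩ := h
  obtain ⟨χ, hχ, hχ1, -⟩ := exists_of_mem hd
  obtain ⟨n, ρ, hρ, hρc⟩ := hχ
  haveI := hρ
  refine hpd.trans ?_
  have h1 := finrank_dvd_card ρ
  rw [← hρc, Representation.char_one] at hχ1
  rwa [Nat.cast_inj.1 hχ1] at h1

/-- Three primes divide degrees of a nonabelian simple group. -/
theorem three_primes_simple [IsSimpleGroup G] (hna : ∃ a b : G, a * b ≠ b * a) :
    ∃ p q r : ℕ, p ≠ q ∧ q ≠ r ∧ p ≠ r ∧ p ∈ Cfsg.degreePrimes G ∧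
      q ∈ Cfsg.degreePrimes G ∧ r ∈ Cfsg.degreePrimes G := by
  obtain ⟨l, hl, hlG⟩ := Nat.exists_prime_and_dvd (n := Nat.card G) Finite.one_lt_card.ne'
  obtain ⟨p, hp, -, -, hpG⟩ := exists_prime_simple hna hl hlG hl
  obtain ⟨q, hq, hqp, -, hqG⟩ := exists_prime_simple hna hp (prime_dvd_card hpG) hp
  obtain ⟨r, -, hrp, hrq, hrG⟩ := exists_prime_simple hna hp (prime_dvd_card hpG) hq
  exact ⟨p, q, r, fun h => hqp h.symm, fun h => hrq h.symm, fun h => hrp h.symm, hpG, hqG, hrG⟩

theorem aux (n : ℕ) : ∀ (G : Type u) [Group G] [Finite G], Nat.card G = n →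
    ¬ Group.IsSolvable G →
    ∃ p q r : ℕ, p ≠ q ∧ q ≠ r ∧ p ≠ r ∧ p ∈ Cfsg.degreePrimes G ∧
      q ∈ Cfsg.degreePrimes G ∧ r ∈ Cfsg.degreePrimes G := by
  induction n using Nat.strong_induction_on with
  | _ n ih =>
    intro G _ _ hcard hns
    rcases subsingleton_or_nontrivial G with hG | hG
    · exact absurd (Group.isSolvable_of_comm fun a b => Subsingleton.elim _ _) hns
    by_cases hs : IsSimpleGroup G
    · refine three_primes_simple ?_
      by_contra hab
      push Not at hab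
      exact hns (Group.isSolvable_of_comm hab)
    obtain ⟨N, hN, hN1, hN2⟩ : ∃ N : Subgroup G, N.Normal ∧ N ≠ ⊥ ∧ N ≠ ⊤ := by
      by_contra hne
      push Not at hne
      exact hs { eq_bot_or_eq_top_of_normal := fun N hN => or_iff_not_imp_left.2 (hne N hN) }
    haveI := hN
    haveI : Nontrivial N := (Subgroup.nontrivial_iff_ne_bot _).2 hN1
    have hmul := Subgroup.card_eq_card_quotient_mul_card_subgroup N
    have h2 : 1 < Nat.card N := Finite.one_lt_card
    have h3 : 1 < Nat.card (G ⧸ N) := by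
      rw [← Subgroup.index_eq_card]
      exact lt_of_le_of_ne (Nat.one_le_iff_ne_zero.2 Subgroup.index_ne_zero_of_finite)
        (fun h => hN2 (Subgroup.index_eq_one.1 h.symm))
    have hsub : ∀ {H : Type u} [Group H], (∀ d ∈ Cfsg.charDegrees H, ∃ c ∈ Cfsg.charDegrees G, d ∣ c) →
        (∃ p q r : ℕ, p ≠ q ∧ q ≠ r ∧ p ≠ r ∧ p ∈ Cfsg.degreePrimes H ∧
          q ∈ Cfsg.degreePrimes H ∧ r ∈ Cfsg.degreePrimes H) →
        ∃ p q r : ℕ, p ≠ q ∧ q ≠ r ∧ p ≠ r ∧ p ∈ Cfsg.degreePrimes G ∧
          q ∈ Cfsg.degreePrimes G ∧ r ∈ Cfsg.degreePrimes G := by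
      intro H _ hd ⟨p, q, r, h1, h2, h3, hp, hq, hr⟩
      have mv : ∀ l, l ∈ Cfsg.degreePrimes H → l ∈ Cfsg.degreePrimes G := by
        rintro l ⟨hl, d, hdm, hld⟩
        obtain ⟨c, hc, hdc⟩ := hd d hdm
        exact ⟨hl, c, hc, hld.trans hdc⟩
      exact ⟨p, q, r, h1, h2, h3, mv p hp, mv q hq, mv r hr⟩
    by_cases hNs : Group.IsSolvable N
    · refine hsub (H := G ⧸ N) (fun d hd => ⟨d, Classification.SmallGraph.mem_of_quotient N hd,
        dvd_rfl⟩) (ih _ (by rw [← hcard, hmul]; exact lt_mul_right Nat.card_pos h2) (G ⧸ N) rfl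
          fun hq => hns ?_)
      haveI := hNs
      haveI := hq
      exact Group.isSolvable_of_ker_le_range N.subtype (QuotientGroup.mk' N) (by simp)
    · exact hsub (H := ↥N) (fun d hd => Classification.SmallGraph.exists_dvd_of_normal N hd)
        (ih _ (by rw [← hcard, hmul]; exact lt_mul_left Nat.card_pos h3) N rfl hNs)

/-- A nonsolvable group has at least three degree primes. -/
theorem three_primes (hG : ¬ Group.IsSolvable G) :
    ∃ p q r : ℕ, p ≠ q ∧ q ≠ r ∧ p ≠ r ∧ p ∈ Cfsg.degreePrimes G ∧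
      q ∈ Cfsg.degreePrimes G ∧ r ∈ Cfsg.degreePrimes G :=
  aux _ G rfl hG

end CfsgLib.DegreeGraph.ThreePrimes
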