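import Cfsg.Agent.DegreeGraph.Basic
import Cfsg.Agent.CharactersDeep.Ramification
import Cfsg.Agent.CharactersDeep.PrimePowerDegrees
import Mathlib.GroupTheory.Nilpotent
import Mathlib.GroupTheory.Sylow

/-!
# The minimal nonabelian quotient of a solvable group and its effect on degrees (Isaacs 12.3, 12.4)
-/

set_option autoImplicit false
set_option linter.style.haveILetI false
set_option linter.unusedSectionVars false

namespace CfsgLib.DegreeGraph

open CfsgLib.Characters CfsgLib.OddOrderChar CfsgLib.CharactersDeep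
open scoped commutatorElement

universe u

variable {G : Type u} [Group G]

/-- `N / K` is an abelian Frobenius kernel of `G / K` with abelian quotient, of order a power
of the prime `q`. -/
structure IsFrobeniusSection (q : ℕ) (K N : Subgroup G) : Prop where
  prime : q.Prime
  le : K ≤ N
  comm_mem : ∀ a b : G, ⁅a, b⁆ ∈ N
  comm_mem_bot : ∀ v ∈ N, ∀ w ∈ N, ⁅v, w⁆ ∈ K
  fpf : ∀ g, g ∉ N → ∀ v ∈ N, ∃ w ∈ N, ⁅g, w⁆⁻¹ * v ∈ K
  ne_top : N ≠ ⊤
  card_eq : ∃ m, 0 < m ∧ K.relIndex N = q ^ m

/-- A solvable group all whose nontrivial normal subgroups contain the derived subgroup. -/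
theorem structure_of_unique {Q : Type*} [Group Q] [Finite Q] [Group.IsSolvable Q]
    (hmin : ∀ M : Subgroup Q, M.Normal → M ≠ ⊥ → commutator Q ≤ M) (hne : commutator Q ≠ ⊥) :
    ∃ q : ℕ, q.Prime ∧ ((∃ n, Nat.card Q = q ^ n) ∨
      (IsPGroup q (commutator Q) ∧ (∀ v ∈ commutator Q, ∀ w ∈ commutator Q, ⁅v, w⁆ = 1) ∧
        commutator Q ≠ ⊤ ∧
        ∀ g, g ∉ commutator Q → ∀ v ∈ commutator Q, ∃ w ∈ commutator Q, ⁅g, w⁆ = v)) := by
  classical
  set V := commutator Q with hVdef
  haveI : Nontrivial Q := by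
    by_contra h
    rw [not_nontrivial_iff_subsingleton] at h
    exact hne (Subsingleton.elim _ _)
  have hab : ∀ v ∈ V, ∀ w ∈ V, v * w = w * v := fun v hv w hw => by
    by_contra hvw
    have hcne : ⁅V, V⁆ ≠ ⊥ := fun h0 => hvw (commutatorElement_eq_one_iff_mul_comm.1
      (Subgroup.mem_bot.1 (h0 ▸ Subgroup.commutator_mem_commutator hv hw)))
    exact (Group.IsSolvable.commutator_lt_of_ne_bot hne).not_ge
      (hmin _ (Subgroup.commutator_normal V V) hcne)
  have htop : V ≠ ⊤ := (Group.IsSolvable.commutator_lt_top_of_nontrivial Q).ne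
  obtain ⟨q, hq, hdvd⟩ := Nat.exists_prime_and_dvd
    (show Nat.card V ≠ 1 from fun h => hne (Subgroup.card_eq_one.1 h))
  haveI := Fact.mk hq
  obtain ⟨v₀, hv₀⟩ := exists_prime_orderOf_dvd_card' q hdvd
  let W : Subgroup Q :=
    { carrier := {v | v ∈ V ∧ v ^ q = 1}
      one_mem' := ⟨V.one_mem, one_pow q⟩
      mul_mem' := fun {a b} ha hb => ⟨V.mul_mem ha.1 hb.1, by
        rw [(show Commute a b from hab a ha.1 b hb.1).mul_pow, ha.2, hb.2, one_mul]⟩
      inv_mem' := fun {a} ha => ⟨V.inv_mem ha.1, by rw [inv_pow, ha.2, inv_one]⟩ }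
  haveI : W.Normal := ⟨fun v hv g => ⟨(inferInstance : V.Normal).conj_mem v hv.1 g, by
    rw [conj_pow, hv.2, mul_one, mul_inv_cancel]⟩⟩
  have hv₀ne : (v₀ : Q) ≠ 1 := fun h => hq.one_lt.ne' (by
    rw [← hv₀, orderOf_eq_one_iff]
    exact Subtype.ext h)
  have hW : V ≤ W := hmin W inferInstance fun h => hv₀ne (by
    have hmem : (v₀ : Q) ∈ W := ⟨v₀.2, by
      rw [← Subgroup.coe_pow, ← hv₀, pow_orderOf_eq_one, Subgroup.coe_one]⟩
    rw [h, Subgroup.mem_bot] at hmem
    exact hmem)
  have hpg : IsPGroup q V := fun v => ⟨1, by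
    rw [pow_one]
    exact Subtype.ext (by simpa using (hW v.2).2)⟩
  refine ⟨q, hq, ?_⟩
  by_cases hcen : V ≤ Subgroup.center Q
  · left
    haveI : Group.IsNilpotent Q := by
      rw [Subgroup.nilpotent_iff_lowerCentralSeries]
      exact ⟨2, Subgroup.commutator_eq_bot_iff_le_centralizer.2
        ((Subgroup.top_lowerCentralSeries_one (G := Q)).le.trans (hcen.trans (by
          rw [Subgroup.coe_top, Subgroup.centralizer_univ])))⟩
    refine ⟨_, Nat.eq_prime_pow_of_unique_prime_dvd Nat.card_pos.ne' fun {r} hr hrd => ?_⟩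
    haveI := Fact.mk hr
    let P : Sylow r Q := default
    have hVP : V ≤ P := hmin _ inferInstance
      (P.ne_bot_of_dvd_card hrd)
    obtain ⟨k, hk⟩ := P.2 ⟨(v₀ : Q), hVP v₀.2⟩
    have h2 : orderOf (v₀ : Q) ∣ r ^ k := orderOf_dvd_of_pow_eq_one
      (by simpa using congrArg Subtype.val hk)
    rw [Subgroup.orderOf_coe, hv₀] at h2
    exact ((Nat.prime_dvd_prime_iff_eq hq hr).1 (hq.dvd_of_dvd_pow h2)).symm
  · right
    refine ⟨hpg, fun v hv w hw => commutatorElement_eq_one_iff_mul_comm.2 (hab v hv w hw), htop, ?_⟩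
    -- fixed-point-free action outside the centraliser
    have hbase : ∀ x, x ∉ Subgroup.centralizer (V : Set Q) →
        ∀ v ∈ V, ∃ w ∈ V, ⁅x, w⁆ = v := by
      intro x hx
      let D : Subgroup Q := V ⊓ Subgroup.centralizer {x}
      haveI : D.Normal := ⟨fun v hv g => by
        obtain ⟨hvV, hvx⟩ := Subgroup.mem_inf.1 hv
        have hgv := (inferInstance : V.Normal).conj_mem v hvV g
        refine Subgroup.mem_inf.2 ⟨hgv, Subgroup.mem_centralizer_singleton_iff.2 ?_⟩
        -- `g x g⁻¹ = c x` with `c ∈ V`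
        have hc : ⁅g, x⁆ ∈ V := Subgroup.commutator_mem_commutator (Subgroup.mem_top g)
          (Subgroup.mem_top x)
        have h1 : g * v * g⁻¹ * (g * x * g⁻¹) = g * x * g⁻¹ * (g * v * g⁻¹) := by
          calc g * v * g⁻¹ * (g * x * g⁻¹) = g * (v * x) * g⁻¹ := by group
            _ = g * (x * v) * g⁻¹ := by rw [Subgroup.mem_centralizer_singleton_iff.1 hvx]
            _ = _ := by group
        rw [show g * x * g⁻¹ = ⁅g, x⁆ * x by simp [commutatorElement_def, mul_assoc],
          ← mul_assoc, hab _ hgv _ hc] at h1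
        refine mul_left_cancel (a := ⁅g, x⁆) ?_
        simpa only [mul_assoc] using h1⟩
      have hD : D = ⊥ := by
        by_contra hD
        refine hx (Subgroup.mem_centralizer_iff.2 fun v hv => ?_)
        exact Subgroup.mem_centralizer_singleton_iff.1 ((hmin D inferInstance hD) hv).2
      let f : V → V := fun w => ⟨⁅x, (w : Q)⁆,
        Subgroup.commutator_mem_commutator (Subgroup.mem_top x) (Subgroup.mem_top (w : Q))⟩
      have hinj : Function.Injective f := by
        intro a b hab'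
        have h2 : x * a * x⁻¹ * (a : Q)⁻¹ = x * b * x⁻¹ * (b : Q)⁻¹ := congrArg Subtype.val hab'
        have hcomm := hab _ (V.inv_mem b.2) _ a.2
        have h3 : (b : Q)⁻¹ * a ∈ D := by
          refine Subgroup.mem_inf.2 ⟨V.mul_mem (V.inv_mem b.2) a.2,
            Subgroup.mem_centralizer_singleton_iff.2 ?_⟩
          have h4 : x * ((b : Q)⁻¹ * a) * x⁻¹ = (b : Q)⁻¹ * a := by
            calc x * ((b : Q)⁻¹ * a) * x⁻¹
                = (x * b * x⁻¹)⁻¹ * (x * a * x⁻¹ * (a : Q)⁻¹) * a := by group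
              _ = (x * b * x⁻¹)⁻¹ * (x * b * x⁻¹ * (b : Q)⁻¹) * a := by rw [h2]
              _ = (b : Q)⁻¹ * a := by group
          conv_lhs => rw [← h4]
          group
        rw [hD, Subgroup.mem_bot, inv_mul_eq_one] at h3
        exact Subtype.ext h3.symm
      intro v hv
      obtain ⟨w, hw⟩ := (Finite.injective_iff_surjective.1 hinj) ⟨v, hv⟩
      exact ⟨w, w.2, congrArg Subtype.val hw⟩
    have hVC : V ≤ Subgroup.centralizer (V : Set Q) := fun v hv =>
      Subgroup.mem_centralizer_iff.2 fun w hw => hab w hw v hv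
    obtain ⟨x, hx⟩ : ∃ x, x ∉ Subgroup.centralizer (V : Set Q) := by
      by_contra hall
      push Not at hall
      exact hcen fun v hv => Subgroup.mem_center_iff.2 fun g =>
        (Subgroup.mem_centralizer_iff.1 (hall g) v hv).symm
    -- the centraliser of `V` is `V`
    suffices hself : Subgroup.centralizer (V : Set Q) ≤ V from fun g hg => hbase g fun h => hg (hself h)
    have hsplit : ∀ y : Q, ∃ w ∈ V, (w⁻¹ * y) * x = x * (w⁻¹ * y) := fun y => by
      obtain ⟨w, hw, hwy⟩ := hbase x hx ⁅x, y⁆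
        (Subgroup.commutator_mem_commutator (Subgroup.mem_top x) (Subgroup.mem_top y))
      refine ⟨w, hw, ?_⟩
      simp only [commutatorElement_def] at hwy
      have h1 : x * (w⁻¹ * y) * x⁻¹ = w⁻¹ * y := by
        calc x * (w⁻¹ * y) * x⁻¹ = (x * w * x⁻¹)⁻¹ * (x * y * x⁻¹ * y⁻¹) * y := by group
          _ = (x * w * x⁻¹)⁻¹ * (x * w * x⁻¹ * w⁻¹) * y := by rw [hwy]
          _ = w⁻¹ * y := by group
      conv_lhs => rw [← h1]
      group
    let D : Subgroup Q := Subgroup.centralizer (V : Set Q) ⊓ Subgroup.centralizer {x}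
    haveI : D.Normal := ⟨fun d hd g => by
      obtain ⟨hdV, hdx⟩ := Subgroup.mem_inf.1 hd
      obtain ⟨w, hw, hwg⟩ := hsplit g
      have hcommw : d * w = w * d := (Subgroup.mem_centralizer_iff.1 hdV w hw).symm
      refine Subgroup.mem_inf.2 ⟨Subgroup.Normal.conj_mem inferInstance d hdV g, ?_⟩
      set y := w⁻¹ * g with hy
      have hg : g = w * y := by rw [hy]; group
      have hydC : y * d * y⁻¹ ∈ Subgroup.centralizer (V : Set Q) :=
        Subgroup.Normal.conj_mem inferInstance d hdV y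
      have h1 : g * d * g⁻¹ = y * d * y⁻¹ := by
        calc g * d * g⁻¹ = w * (y * d * y⁻¹) * w⁻¹ := by rw [hg]; group
          _ = y * d * y⁻¹ := by
            rw [Subgroup.mem_centralizer_iff.1 hydC w hw, mul_inv_cancel_right]
      rw [h1]
      exact (Subgroup.centralizer {x}).mul_mem ((Subgroup.centralizer {x}).mul_mem
        (Subgroup.mem_centralizer_singleton_iff.2 hwg) hdx)
        ((Subgroup.centralizer {x}).inv_mem (Subgroup.mem_centralizer_singleton_iff.2 hwg))⟩
    have hD : D = ⊥ := by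
      by_contra hD
      refine hx (Subgroup.mem_centralizer_iff.2 fun v hv => ?_)
      exact Subgroup.mem_centralizer_singleton_iff.1 ((hmin D inferInstance hD) hv).2
    intro c hc
    obtain ⟨w, hw, hwc⟩ := hsplit c
    have h1 : w⁻¹ * c ∈ D := Subgroup.mem_inf.2
      ⟨(Subgroup.centralizer _).mul_mem ((Subgroup.centralizer _).inv_mem (hVC hw)) hc,
        Subgroup.mem_centralizer_singleton_iff.2 hwc⟩
    rw [hD, Subgroup.mem_bot, inv_mul_eq_one] at h1
    exact h1 ▸ hw

/-- A nonabelian solvable group has a nonabelian quotient of prime power order or a quotient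
with abelian Frobenius kernel and abelian complement. -/
theorem exists_section [Finite G] [Group.IsSolvable G] (hne : ∃ a b : G, a * b ≠ b * a) :
    ∃ (K : Subgroup G), K.Normal ∧
      ((∃ q n : ℕ, q.Prime ∧ K.index = q ^ n ∧ ∃ a b : G, ⁅a, b⁆ ∉ K) ∨
        ∃ (q : ℕ) (N : Subgroup G), N.Normal ∧ IsFrobeniusSection q K N) := by
  classical
  obtain ⟨a, b, hab⟩ := hne
  let S : Set (Subgroup G) := {K | K.Normal ∧ ∃ a b : G, ⁅a, b⁆ ∉ K}
  have hbot : (⊥ : Subgroup G) ∈ S := ⟨inferInstance, a, b, fun h =>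
    hab (commutatorElement_eq_one_iff_mul_comm.1 (Subgroup.mem_bot.1 h))⟩
  obtain ⟨K, hK⟩ := S.toFinite.exists_maximal ⟨⊥, hbot⟩
  obtain ⟨hKn, a, b, hKab⟩ := hK.1
  haveI := hKn
  refine ⟨K, hKn, ?_⟩
  let π := QuotientGroup.mk' K
  have hπ : Function.Surjective π := QuotientGroup.mk'_surjective K
  haveI : Group.IsSolvable (G ⧸ K) := Group.isSolvable_of_surjective hπ
  have hmin : ∀ M : Subgroup (G ⧸ K), M.Normal → M ≠ ⊥ → commutator (G ⧸ K) ≤ M := by
    intro M hM hne'
    have hlt : K < M.comap π := by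
      refine lt_of_le_of_ne (fun k hk => ?_) fun h => hne' ?_
      · show π k ∈ M
        rw [QuotientGroup.mk'_apply, (QuotientGroup.eq_one_iff k).2 hk]
        exact M.one_mem
      · rw [← Subgroup.map_comap_eq_self_of_surjective hπ M, ← h]
        exact (Subgroup.map_eq_bot_iff K).2 (by rw [QuotientGroup.ker_mk'])
    have hall : ∀ c d : G, ⁅c, d⁆ ∈ M.comap π := by
      by_contra hc
      push Not at hc
      exact hlt.not_ge (hK.2 ⟨inferInstance, hc⟩ hlt.le)
    refine Subgroup.commutator_le.2 fun x _ y _ => ?_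
    obtain ⟨c, rfl⟩ := hπ x
    obtain ⟨d, rfl⟩ := hπ y
    rw [← map_commutatorElement]
    exact hall c d
  have hV : commutator (G ⧸ K) ≠ ⊥ := fun h => hKab <| by
    have h1 : π ⁅a, b⁆ ∈ commutator (G ⧸ K) := by
      rw [map_commutatorElement]
      exact Subgroup.commutator_mem_commutator (Subgroup.mem_top _) (Subgroup.mem_top _)
    rw [h, Subgroup.mem_bot] at h1
    exact (QuotientGroup.eq_one_iff _).1 h1
  obtain ⟨q, hq, h⟩ := structure_of_unique hmin hV
  haveI := Fact.mk hq
  rcases h with ⟨n, hn⟩ | ⟨hpg, habel, htop, hfpf⟩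
  · exact Or.inl ⟨q, n, hq, by rw [Subgroup.index_eq_card, hn], a, b, hKab⟩
  refine Or.inr ⟨q, (commutator (G ⧸ K)).comap π, inferInstance,
    { prime := hq
      le := fun k hk => ?_
      comm_mem := fun c d => ?_
      comm_mem_bot := fun v hv w hw => ?_
      fpf := fun g hg v hv => ?_
      ne_top := fun h => htop ?_
      card_eq := ?_ }⟩
  · show π k ∈ commutator (G ⧸ K)
    rw [QuotientGroup.mk'_apply, (QuotientGroup.eq_one_iff k).2 hk]
    exact Subgroup.one_mem _
  · show π ⁅c, d⁆ ∈ commutator (G ⧸ K)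
    rw [map_commutatorElement]
    exact Subgroup.commutator_mem_commutator (Subgroup.mem_top _) (Subgroup.mem_top _)
  · refine (QuotientGroup.eq_one_iff _).1 ?_
    show π ⁅v, w⁆ = 1
    rw [map_commutatorElement]
    exact habel _ hv _ hw
  · obtain ⟨w', hw', hwv⟩ := hfpf (π g) hg (π v) hv
    obtain ⟨w, rfl⟩ := hπ w'
    refine ⟨w, hw', (QuotientGroup.eq_one_iff _).1 ?_⟩
    show π (⁅g, w⁆⁻¹ * v) = 1
    rw [map_mul, map_inv, map_commutatorElement, hwv, inv_mul_cancel]
  · rw [← Subgroup.map_comap_eq_self_of_surjective hπ (commutator (G ⧸ K)), h,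
      Subgroup.map_top_of_surjective π hπ]
  · obtain ⟨m, hm⟩ := IsPGroup.iff_card.1 hpg
    refine ⟨m, Nat.pos_of_ne_zero fun h0 => hV (Subgroup.card_eq_one.1 (by rw [hm, h0, pow_zero])), ?_⟩
    rw [← hm]
    have hK0 : (⊥ : Subgroup (G ⧸ K)).comap π = K :=
      (MonoidHom.comap_bot π).trans (QuotientGroup.ker_mk' K)
    have h1 := Subgroup.relIndex_comap (⊥ : Subgroup (G ⧸ K)) π ((commutator (G ⧸ K)).comap π)
    rw [hK0] at h1
    rw [h1, Subgroup.map_comap_eq_self_of_surjective hπ, Subgroup.relIndex_bot_left]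

theorem div_eq_div_of_mul_inv_eq {A : Type*} [CommGroup A] {a b c e : A}
    (h : a * b⁻¹ = c * e⁻¹) : a / c = b / e := by
  rw [div_eq_div_iff_mul_eq_mul]
  rw [← div_eq_mul_inv, ← div_eq_mul_inv, div_eq_div_iff_mul_eq_mul] at h
  rw [h]
  exact mul_comm _ _

variable [Fintype G] {q : ℕ} {K N : Subgroup G} [hK : K.Normal] [hN : N.Normal]

/-- **Isaacs 12.4**: for a Frobenius section and an irreducible character of `N` of degree `d`,
either `[G : N] d` is a degree of `G` or `q ∣ d`. -/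
theorem IsFrobeniusSection.index_mul_mem_or_dvd [Fintype N] (h : IsFrobeniusSection q K N)
    {θ : N → ℂ} (hθ : Cfsg.IsIrrCharacter N θ) {d : ℕ} (hd : θ 1 = d) :
    N.index * d ∈ Cfsg.charDegrees G ∨ q ∣ d := by
  classical
  haveI := Fintype.ofFinite (K.subgroupOf N)
  let K' := K.subgroupOf N
  -- linear characters of `N / K` and their twists
  let tw : (N →* ℂˣ) → N → ℂ := fun f n => (f n : ℂ) * θ n
  haveI : Finite (N →* ℂˣ) := Finite.of_equiv _ (linearCharEquiv (G := N)).symm
  let X : Subgroup (N →* ℂˣ) :=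
    { carrier := {f | ∀ n : N, (n : G) ∈ K → f n = 1}
      one_mem' := fun _ _ => rfl
      mul_mem' := fun {f f'} hf hf' n hn => by simp [hf n hn, hf' n hn]
      inv_mem' := fun {f} hf n hn => by simp [hf n hn] }
  let U : Subgroup (N →* ℂˣ) :=
    { carrier := {f | tw f = θ}
      one_mem' := funext fun n => by simp [tw]
      mul_mem' := fun {f f'} (hf : tw f = θ) (hf' : tw f' = θ) => funext fun n => by
        have e1 : (f n : ℂ) * θ n = θ n := congrFun hf n
        have e2 : (f' n : ℂ) * θ n = θ n := congrFun hf' n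
        simp [tw, mul_assoc, e2, e1]
      inv_mem' := fun {f} (hf : tw f = θ) => funext fun n => by
        have e1 : (f n : ℂ) * θ n = θ n := congrFun hf n
        show ((f⁻¹ : N →* ℂˣ) n : ℂ) * θ n = θ n
        conv_lhs => rw [← e1]
        simp }
  let act : G → (N →* ℂˣ) →* (N →* ℂˣ) := fun g =>
    { toFun := fun f => f.comp (MulAut.conjNormal (H := N) g).toMonoidHom
      map_one' := rfl
      map_mul' := fun _ _ => rfl }
  have hconj : ∀ (g : G) (n : N),
      (MulAut.conjNormal (H := N) g) n = ⟨g * n * g⁻¹, hN.conj_mem n n.2 g⟩ :=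
    fun g n => Subtype.ext (MulAut.conjNormal_apply g n)
  have hact : ∀ g (f : N →* ℂˣ) (n : N),
      act g f n = f ⟨g * n * g⁻¹, hN.conj_mem n n.2 g⟩ := fun g f n => congrArg f (hconj g n)
  have htw : ∀ g f, conjBy N (tw f) g = fun n => (act g f n : ℂ) * conjBy N θ g n := fun g f =>
    funext fun n => by rw [hact]; rfl
  have hX : ∀ g, ∀ f ∈ X, act g f ∈ X := fun g f hf n hn => by
    rw [hact]
    exact hf _ (hK.conj_mem _ hn g)
  -- an element outside `N` fixes no nontrivial linear character of `N / K`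
  have hfpf : ∀ g, g ∉ N → ∀ f ∈ X, act g f = f → f = 1 := by
    intro g hg f hf hfix
    ext v
    obtain ⟨w, hw, hwv⟩ := h.fpf g hg v v.2
    have hmem : ⁅g, w⁆ ∈ N := h.comm_mem g w
    have e1 : f v = f ⟨⁅g, w⁆, hmem⟩ := by
      have h1 : f (⟨⁅g, w⁆, hmem⟩⁻¹ * v) = 1 := hf _ hwv
      rwa [map_mul, map_inv, inv_mul_eq_one, eq_comm] at h1
    have e2 : f ⟨⁅g, w⁆, hmem⟩ = 1 := by
      rw [show (⟨⁅g, w⁆, hmem⟩ : N) = ⟨g * w * g⁻¹, hN.conj_mem w hw g⟩ * ⟨w, hw⟩⁻¹ from
        Subtype.ext (by simp [commutatorElement_def]), map_mul, map_inv, mul_inv_eq_one]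
      rw [← hact g f ⟨w, hw⟩, hfix]
    rw [e1, e2]
    rfl
  -- a stabilising element outside `N` acts bijectively on `U ⊓ X`
  have hcancel : ∀ g, g ∉ N → conjBy N θ g = θ → ∀ f ∈ X, act g f * f⁻¹ ∈ U → f ∈ U := by
    intro g hg hfix f hf hfU
    have hUinv : ∀ u ∈ U, act g u ∈ U := fun u hu => by
      have h1 := congrFun (htw g u)
      rw [hfix] at h1
      funext n
      rw [show tw (act g u) n = conjBy N (tw u) g n from (h1 n).symm,
        show tw u = θ from hu, hfix]
    let φ : ↥(X ⊓ U) → ↥(X ⊓ U) := fun u => ⟨act g u * (u : N →* ℂˣ)⁻¹,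
      Subgroup.mem_inf.2 ⟨X.mul_mem (hX g _ u.2.1) (X.inv_mem u.2.1),
        U.mul_mem (hUinv _ u.2.2) (U.inv_mem u.2.2)⟩⟩
    have hinj : Function.Injective φ := by
      intro u u' huu
      have h1 : act g u * (u : N →* ℂˣ)⁻¹ = act g u' * (u' : N →* ℂˣ)⁻¹ := congrArg Subtype.val huu
      exact Subtype.ext (div_eq_one.1 (hfpf g hg _ (X.div_mem u.2.1 u'.2.1)
        ((map_div _ _ _).trans (div_eq_div_of_mul_inv_eq h1))))
    obtain ⟨u, hu⟩ := (Finite.injective_iff_surjective.1 hinj)
      ⟨act g f * f⁻¹, Subgroup.mem_inf.2 ⟨X.mul_mem (hX g f hf) (X.inv_mem hf), hfU⟩⟩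
    have h1 : act g u * (u : N →* ℂˣ)⁻¹ = act g f * f⁻¹ := congrArg Subtype.val hu
    have h2 : (u : N →* ℂˣ) = f := by
      exact div_eq_one.1 (hfpf g hg _ (X.div_mem u.2.1 hf)
        ((map_div _ _ _).trans (div_eq_div_of_mul_inv_eq h1)))
    exact h2 ▸ u.2.2
  by_cases hTN : ∀ t, t ∉ N → conjBy N θ t ≠ θ
  · exact Or.inl (mem_charDegrees (isIrr_indFun_of_stabilizer N hθ hTN)
      (by rw [CfsgLib.Characters.indFun_one, hd, Nat.cast_mul]))
  push Not at hTN
  obtain ⟨t, htN, ht⟩ := hTN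
  by_cases hXU : ∀ f ∈ X, f ∈ U
  · -- `θ` vanishes off `K`
    right
    by_contra hq
    obtain ⟨m, hm0, hm⟩ := h.card_eq
    have hidx : K'.index = q ^ m := hm
    have hab : ∀ x y : N ⧸ K', x * y = y * x := by
      intro x y
      obtain ⟨v, rfl⟩ := QuotientGroup.mk_surjective x
      obtain ⟨w, rfl⟩ := QuotientGroup.mk_surjective y
      rw [← commutatorElement_eq_one_iff_mul_comm, ← QuotientGroup.mk'_apply,
        ← QuotientGroup.mk'_apply, ← map_commutatorElement, QuotientGroup.mk'_apply,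
        QuotientGroup.eq_one_iff, Subgroup.mem_subgroupOf]
      exact h.comm_mem_bot _ v.2 _ w.2
    letI : CommGroup (N ⧸ K') := { (inferInstance : Group (N ⧸ K')) with mul_comm := hab }
    have hvan : ∀ n : N, n ∉ K' → θ n = 0 := by
      intro n hn
      haveI : NeZero (Monoid.exponent (N ⧸ K') : ℂ) :=
        ⟨Nat.cast_ne_zero.2 Monoid.exponent_ne_zero_of_finite⟩
      obtain ⟨f, hf⟩ := CommGroup.exists_apply_ne_one_of_hasEnoughRootsOfUnity (N ⧸ K') ℂ
        (a := (n : N ⧸ K')) fun h1 => hn ((QuotientGroup.eq_one_iff n).1 h1)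
      have hfX : f.comp (QuotientGroup.mk' K') ∈ X := fun k hk => by
        rw [MonoidHom.comp_apply, QuotientGroup.mk'_apply,
          (QuotientGroup.eq_one_iff k).2 (Subgroup.mem_subgroupOf.2 hk), map_one]
      have e1 : (f (n : N ⧸ K') : ℂ) * θ n = θ n := congrFun (hXU _ hfX) n
      by_contra h0
      exact hf (Units.ext (mul_right_cancel₀ h0 (e1.trans (one_mul _).symm)))
    have hnorm := (Ramification.vanish_iff K' hθ).1 hvan
    rw [classInner_isIrr_self (restrict_irr_of_coprime K' hθ hd (hidx ▸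
      ((Nat.coprime_comm.1 (h.prime.coprime_iff_not_dvd.2 hq)).pow_right m)))] at hnorm
    have h1 : (1 : ℕ) = q ^ m := by
      rw [← hidx]
      exact_mod_cast hnorm
    exact (Nat.one_lt_pow hm0.ne' h.prime.one_lt).ne h1
  · left
    push Not at hXU
    obtain ⟨f, hfX, hfU⟩ := hXU
    have hirr : Cfsg.IsIrrCharacter N (tw f) :=
      (ExtensionCriteria.twist (G := N) hθ hd f).1
    refine mem_charDegrees (isIrr_indFun_of_stabilizer N hirr fun s hs hfix => ?_)
      (by rw [CfsgLib.Characters.indFun_one]; simp [tw, hd])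
    -- `θ ^ s = μ θ`
    let μ : N →* ℂˣ := f * (act s f)⁻¹
    have hμX : μ ∈ X := X.mul_mem hfX (X.inv_mem (hX s f hfX))
    have hfix' : ∀ n, (act s f n : ℂ) * conjBy N θ s n = (f n : ℂ) * θ n := fun n =>
      (congrFun (htw s f) n).symm.trans (congrFun hfix n)
    have hθs : conjBy N θ s = tw μ := funext fun n => by
      have h1 := hfix' n
      simp only [tw, μ, MonoidHom.mul_apply, MonoidHom.inv_apply, Units.val_mul,
        Units.val_inv_eq_inv_val]
      field_simp [Units.ne_zero]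
      linear_combination h1
    have hts : conjBy N (conjBy N θ s) t = conjBy N θ s := by
      have hc : (t * s)⁻¹ * (s * t) ∈ N := by
        have := h.comm_mem (t * s)⁻¹ (t * s)
        have := h.comm_mem s⁻¹ t⁻¹
        simpa [commutatorElement_def, mul_assoc] using this
      have hfixN : ∀ m ∈ N, ∀ F : N → ℂ, Cfsg.IsClassFunction N F → conjBy N F m = F :=
        fun m hm F hF => funext fun n =>
          (congrArg F (Subtype.ext (by simp))).trans (hF n ⟨m, hm⟩)
      calc conjBy N (conjBy N θ s) t = conjBy N θ (s * t) := conjBy_mul N θ s t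
        _ = conjBy N (conjBy N θ (t * s)) ((t * s)⁻¹ * (s * t)) := by
          rw [conjBy_mul, mul_inv_cancel_left]
        _ = conjBy N θ (t * s) := hfixN _ hc _
          (isClassFunction_of_isIrr (Clifford.isIrr_conjBy N hθ _))
        _ = conjBy N θ s := by rw [← conjBy_mul, ht]
    have hμU : μ ∈ U := by
      refine hcancel t htN ht μ hμX ?_
      rw [hθs, htw t μ, ht] at hts
      funext n
      have h1 := congrFun hts n
      simp only [tw, MonoidHom.mul_apply, MonoidHom.inv_apply, Units.val_mul,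
        Units.val_inv_eq_inv_val] at h1 ⊢
      field_simp [Units.ne_zero]
      linear_combination h1
    have hs' : conjBy N θ s = θ := hθs.trans hμU
    refine hfU (hcancel s hs hs' f hfX ?_)
    have hμ : act s f * f⁻¹ = μ⁻¹ := by
      refine eq_inv_of_mul_eq_one_left (a := act s f * f⁻¹) (b := μ) ?_
      exact MonoidHom.ext fun n => by simp [μ, mul_assoc]
    rw [hμ]
    exact U.inv_mem hμU

end CfsgLib.DegreeGraph
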